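import Cfsg.Agent.H103.PGUUpper
set_option linter.all false

/-!
Matrices preserving some invertible sesquilinear form (`st A * x * A = x`): block sums, hyperbolic
elements, Singer cycles of order `q ^ m + 1` (`m` odd), small unipotent elements; elements of
`PGU_d(q)` of prescribed order.
-/

set_option autoImplicit false
set_option linter.unusedSectionVars false
open Cfsg Matrix

namespace Cfsg.Agent.H103.UniBlock

open Cfsg.Agent.H186
open Cfsg.Agent.ClassicalGeometry.GUBasic
open Cfsg.Agent.H103.PGUUpper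

variable {F : Type*} [Field F]

/-- `A` preserves an invertible `σ`-sesquilinear form. -/
def Uni {ι : Type*} [Fintype ι] [DecidableEq ι] (q : ℕ) (A : Matrix ι ι F) : Prop :=
  ∃ x : Matrix ι ι F, IsUnit x ∧ st q A * x * A = x

theorem uni_one {ι : Type*} [Fintype ι] [DecidableEq ι] [Fintype F] {q : ℕ}
    (hF : Fintype.card F = q ^ 2) : Uni q (1 : Matrix ι ι F) :=
  ⟨1, isUnit_one, by rw [st_one hF, one_mul, one_mul]⟩

section block

variable {ι κ : Type*} [Fintype ι] [DecidableEq ι] [Fintype κ] [DecidableEq κ]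

theorem st_fromBlocks {q : ℕ} (hq : q ≠ 0) (A : Matrix ι ι F) (B : Matrix κ κ F) :
    st q (fromBlocks A 0 0 B) = fromBlocks (st q A) 0 0 (st q B) := by
  ext i j
  rcases i with i | i <;> rcases j with j | j <;>
    simp [st_apply, hq]

theorem isUnit_fromBlocks {A : Matrix ι ι F} {B : Matrix κ κ F} (hA : IsUnit A) (hB : IsUnit B) :
    IsUnit (fromBlocks A 0 0 B) := by
  rw [Matrix.isUnit_iff_isUnit_det, Matrix.det_fromBlocks_zero₂₁]
  rw [Matrix.isUnit_iff_isUnit_det] at hA hB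
  exact hA.mul hB

theorem uni_fromBlocks {q : ℕ} (hq : q ≠ 0) {A : Matrix ι ι F} {B : Matrix κ κ F} (hA : Uni q A)
    (hB : Uni q B) : Uni q (fromBlocks A 0 0 B) := by
  obtain ⟨x, hx, h1⟩ := hA
  obtain ⟨y, hy, h2⟩ := hB
  refine ⟨fromBlocks x 0 0 y, isUnit_fromBlocks hx hy, ?_⟩
  rw [st_fromBlocks hq, fromBlocks_multiply, fromBlocks_multiply]
  simp only [Matrix.mul_zero, Matrix.zero_mul, add_zero, zero_add, h1, h2]

theorem uni_submatrix {q : ℕ} (e : κ ≃ ι) {A : Matrix ι ι F} (hA : Uni q A) :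
    Uni q (A.submatrix e e) := by
  obtain ⟨x, hx, h1⟩ := hA
  refine ⟨x.submatrix e e, ?_, ?_⟩
  · rw [Matrix.isUnit_iff_isUnit_det, Matrix.det_submatrix_equiv_self,
      ← Matrix.isUnit_iff_isUnit_det]
    exact hx
  · have h2 : st q (A.submatrix e e) = (st q A).submatrix e e := rfl
    rw [h2, Matrix.submatrix_mul_equiv, Matrix.submatrix_mul_equiv, h1]

theorem uni_hyp {q : ℕ} [Fintype F] (hF : Fintype.card F = q ^ 2) (A : GL ι F) :
    Uni q (fromBlocks (A : Matrix ι ι F) 0 0 (st q ((A⁻¹ : GL ι F) : Matrix ι ι F))) := by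
  have hq := two_le hF
  have h1 : st q (A : Matrix ι ι F) * st q ((A⁻¹ : GL ι F) : Matrix ι ι F) = 1 := by
    rw [← st_mul hF, Units.inv_mul, st_one hF]
  have h2 : ((A⁻¹ : GL ι F) : Matrix ι ι F) * (A : Matrix ι ι F) = 1 := Units.inv_mul A
  refine ⟨fromBlocks 0 1 1 0, ?_, ?_⟩
  · have h3 : (fromBlocks 0 1 1 0 : Matrix (ι ⊕ ι) (ι ⊕ ι) F) * fromBlocks 0 1 1 0 = 1 := by
      rw [fromBlocks_multiply]
      simp
    exact ⟨⟨_, _, h3, h3⟩, rfl⟩
  · rw [st_fromBlocks (by omega), st_st hF, fromBlocks_multiply, fromBlocks_multiply]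
    simp only [Matrix.mul_zero, Matrix.zero_mul, add_zero, zero_add, Matrix.mul_one, h1, h2]

/-- The block sum as a monoid hom, reindexed. -/
def blk {κ₁ κ₂ : Type*} [Fintype κ₁] [DecidableEq κ₁] [Fintype κ₂] [DecidableEq κ₂]
    (e : ι ≃ κ₁ ⊕ κ₂) : Matrix κ₁ κ₁ F × Matrix κ₂ κ₂ F →* Matrix ι ι F where
  toFun p := (fromBlocks p.1 0 0 p.2).submatrix e e
  map_one' := by
    change (fromBlocks 1 0 0 1 : Matrix (κ₁ ⊕ κ₂) (κ₁ ⊕ κ₂) F).submatrix e e = 1
    rw [fromBlocks_one, Matrix.submatrix_one_equiv]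
  map_mul' p r := by
    change (fromBlocks (p.1 * r.1) 0 0 (p.2 * r.2)).submatrix e e = _
    rw [Matrix.submatrix_mul_equiv, fromBlocks_multiply]
    simp

end block

section exist

/-- Elements of `PGU_d(q)` of order `N P`, from a block of order `N` and a unipotent block of
order `P`, `N` and `P` coprime. -/
theorem exists_elt {ι₁ ι₂ : Type*} [Fintype ι₁] [DecidableEq ι₁] [Fintype ι₂] [DecidableEq ι₂]
    [Nonempty ι₂] [Fintype F] {p c q d : ℕ} [Fact p.Prime] [CharP F p]
    (hF : Fintype.card F = q ^ 2) (hd : 1 ≤ d) (e : Fin d ≃ ι₁ ⊕ ι₂)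
    (A : (Matrix ι₁ ι₁ F)ˣ) (hA : Uni q (A : Matrix ι₁ ι₁ F)) (B : (Matrix ι₂ ι₂ F)ˣ)
    (hB : Uni q (B : Matrix ι₂ ι₂ F)) (hBp : B ^ p ^ c = 1)
    (hco : Nat.Coprime (orderOf A) (orderOf B)) :
    ∃ g : (↥(Cfsg.GU d F q) ⧸ Subgroup.center ↥(Cfsg.GU d F q)),
      orderOf g = orderOf A * orderOf B := by
  classical
  have hq := two_le hF
  have hUni : Uni q (blk e ((A : Matrix ι₁ ι₁ F), (B : Matrix ι₂ ι₂ F))) :=
    uni_submatrix e (uni_fromBlocks (by omega) hA hB)
  obtain ⟨C, hC⟩ : ∃ C : GL (Fin d) F, (C : Matrix (Fin d) (Fin d) F)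
      = blk e ((A : Matrix ι₁ ι₁ F), (B : Matrix ι₂ ι₂ F)) :=
    ⟨Units.map (blk e) (MulEquiv.prodUnits.symm (A, B)), rfl⟩
  rw [← hC] at hUni
  obtain ⟨x, hx, hx1⟩ := hUni
  obtain ⟨y, ⟨y, rfl⟩, M, hM1, hM2⟩ := exists_isometry hF _ x hx C.isUnit hx1
  let M' : GL (Fin d) F := ⟨M, st q M, mul_eq_one_comm.1 hM1, hM1⟩
  have hM' : M' ∈ Cfsg.GU d F q := (mem_GU_iff_st hF M').2 hM1
  have hconj : M' = y * C * y⁻¹ := by
    rw [eq_mul_inv_iff_mul_eq]
    apply Units.ext
    exact hM2.symm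
  -- powers
  have hCk : ∀ k : ℕ, ((C ^ k : GL (Fin d) F) : Matrix (Fin d) (Fin d) F)
      = blk e (((A ^ k : (Matrix ι₁ ι₁ F)ˣ) : Matrix ι₁ ι₁ F),
        ((B ^ k : (Matrix ι₂ ι₂ F)ˣ) : Matrix ι₂ ι₂ F)) := by
    intro k
    rw [Units.val_pow_eq_pow_val, hC, ← map_pow, Prod.pow_mk, Units.val_pow_eq_pow_val,
      Units.val_pow_eq_pow_val]
  have key : ∀ k : ℕ, (∃ r : F, ((C ^ k : GL (Fin d) F) : Matrix (Fin d) (Fin d) F)
      = Matrix.scalar (Fin d) r) → A ^ k = 1 ∧ B ^ k = 1 := by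
    rintro k ⟨r, hr⟩
    rw [hCk] at hr
    have h1 : fromBlocks ((A ^ k : (Matrix ι₁ ι₁ F)ˣ) : Matrix ι₁ ι₁ F) 0 0
        ((B ^ k : (Matrix ι₂ ι₂ F)ˣ) : Matrix ι₂ ι₂ F) = Matrix.scalar (ι₁ ⊕ ι₂) r := by
      have h2 := congrArg (fun N : Matrix (Fin d) (Fin d) F => N.submatrix e.symm e.symm) hr
      have h3 : (Matrix.scalar (Fin d) r).submatrix e.symm e.symm = Matrix.scalar (ι₁ ⊕ ι₂) r := by
        rw [Matrix.scalar_apply, Matrix.scalar_apply, Matrix.submatrix_diagonal_equiv]
        rfl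
      rw [h3] at h2
      rw [← h2]
      change _ = ((fromBlocks _ 0 0 _).submatrix e e).submatrix e.symm e.symm
      rw [Matrix.submatrix_submatrix, Equiv.self_comp_symm, Matrix.submatrix_id_id]
    have h4 : (Matrix.scalar (ι₁ ⊕ ι₂) r) = fromBlocks (Matrix.scalar ι₁ r) 0 0 (Matrix.scalar ι₂ r) := by
      rw [Matrix.scalar_apply, Matrix.scalar_apply, Matrix.scalar_apply, Matrix.fromBlocks_diagonal]
      congr 1
      ext i
      rcases i with i | i <;> rfl
    rw [h4, Matrix.fromBlocks_inj] at h1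
    obtain ⟨hA1, -, -, hB1⟩ := h1
    have h5 : r = 1 := by
      have h6 : (B ^ k) ^ p ^ c = 1 := by rw [← pow_mul, mul_comm, pow_mul, hBp, one_pow]
      have h7 := congrArg Units.val h6
      rw [Units.val_pow_eq_pow_val, hB1, ← map_pow, Units.val_one, ← map_one (Matrix.scalar ι₂)] at h7
      have h8 : r ^ p ^ c = 1 := Matrix.scalar_inj.1 h7
      have h9 : r ^ p ^ c = 1 ^ p ^ c := by rw [h8, one_pow]
      exact iterateFrobenius_inj F p c h9
    rw [h5, map_one] at hA1 hB1
    exact ⟨Units.ext hA1, Units.ext hB1⟩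
  refine ⟨QuotientGroup.mk' _ ⟨M', hM'⟩, ?_⟩
  apply Nat.dvd_antisymm
  · apply orderOf_dvd_of_pow_eq_one
    rw [← map_pow]
    have h1 : (⟨M', hM'⟩ : Cfsg.GU d F q) ^ (orderOf A * orderOf B) = 1 := by
      apply Subtype.ext
      change M' ^ (orderOf A * orderOf B) = 1
      rw [hconj, conj_pow, mul_inv_eq_one]
      have h2 : C ^ (orderOf A * orderOf B) = 1 := by
        apply Units.ext
        rw [hCk, pow_mul, pow_orderOf_eq_one, one_pow, mul_comm (orderOf A), pow_mul,
          pow_orderOf_eq_one, one_pow, Units.val_one, Units.val_one, Units.val_one]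
        exact map_one (blk e)
      rw [h2, mul_one]
    rw [h1, map_one]
  · obtain ⟨k, hk⟩ : ∃ k, k = orderOf (QuotientGroup.mk' (Subgroup.center ↥(Cfsg.GU d F q))
        ⟨M', hM'⟩) := ⟨_, rfl⟩
    have h1 : (QuotientGroup.mk' (Subgroup.center ↥(Cfsg.GU d F q)) ⟨M', hM'⟩) ^ k = 1 := by
      rw [hk]; exact pow_orderOf_eq_one _
    rw [← hk]
    rw [← map_pow] at h1
    obtain ⟨r, hr⟩ := exists_scalar_of_center hF hd ((QuotientGroup.eq_one_iff _).1 h1)
    have h2 : ∃ r : F, ((C ^ k : GL (Fin d) F) : Matrix (Fin d) (Fin d) F)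
        = Matrix.scalar (Fin d) r := by
      refine ⟨r, ?_⟩
      have h3 : ((M' ^ k : GL (Fin d) F) : Matrix (Fin d) (Fin d) F) = Matrix.scalar (Fin d) r := hr
      have h4 : C ^ k = y⁻¹ * M' ^ k * y := by
        rw [hconj, conj_pow]
        group
      rw [h4, Units.val_mul, Units.val_mul, h3, mul_assoc,
        (Matrix.scalar_commute r (Commute.all r) (y : Matrix (Fin d) (Fin d) F)).eq, ← mul_assoc,
        Units.inv_mul, one_mul]
    obtain ⟨h3, h4⟩ := key k h2
    exact hco.mul_dvd_of_dvd_of_dvd (orderOf_dvd_of_pow_eq_one h3) (orderOf_dvd_of_pow_eq_one h4)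

end exist

section singer

/-- A matrix of order `q ^ m + 1`, `m` odd, preserving an invertible sesquilinear form. -/
theorem exists_singer_unitary [Fintype F] {p f q m : ℕ} [Fact p.Prime] [CharP F p]
    (hq : q = p ^ f) (hF : Fintype.card F = q ^ 2) (hm : Odd m) :
    ∃ A : (Matrix (Fin m) (Fin m) F)ˣ, Uni q (A : Matrix (Fin m) (Fin m) F) ∧
      orderOf A = q ^ m + 1 := by
  classical
  have hq2 := two_le hF
  have hm0 : NeZero m := ⟨by rintro rfl; exact (Nat.not_odd_zero hm)⟩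
  let K := FiniteField.Extension F p m
  have hKcard : Nat.card K = q ^ (2 * m) := by
    rw [FiniteField.natCard_extension F p m, Nat.card_eq_fintype_card, hF, ← pow_mul]
  let b := Module.finBasisOfFinrankEq F K (FiniteField.finrank_extension F p m)
  have hchK : CharP K p := charP_of_injective_algebraMap (algebraMap F K).injective p
  -- the element
  obtain ⟨y, hy⟩ := IsCyclic.exists_generator (α := Kˣ)
  have hordy : orderOf y = q ^ (2 * m) - 1 := by
    rw [orderOf_eq_card_of_forall_mem_zpowers hy, Nat.card_units, hKcard]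
  have hqm : 1 < q ^ m := Nat.one_lt_pow hm0.out (by omega)
  have hfac : q ^ (2 * m) - 1 = (q ^ m + 1) * (q ^ m - 1) := by
    have := Nat.sq_sub_sq (q ^ m) 1
    rw [one_pow, ← pow_mul, mul_comm m 2] at this
    exact this
  obtain ⟨u, hu⟩ : ∃ u, u = y ^ (q ^ m - 1) := ⟨_, rfl⟩
  have hordu : orderOf u = q ^ m + 1 := by
    rw [hu, orderOf_pow' y (by omega), hordy, hfac, Nat.gcd_mul_left_left,
      Nat.mul_div_cancel _ (by omega)]
  have hu1 : (u : K) ^ q ^ m * (u : K) = 1 := by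
    rw [← pow_succ, ← Units.val_pow_eq_pow_val, ← hordu, pow_orderOf_eq_one, Units.val_one]
  let A : (Matrix (Fin m) (Fin m) F)ˣ := Units.map (Algebra.leftMulMatrix b).toRingHom.toMonoidHom u
  have hA : (A : Matrix (Fin m) (Fin m) F) = Algebra.leftMulMatrix b (u : K) := rfl
  have hinj : Function.Injective (Units.map (Algebra.leftMulMatrix b).toRingHom.toMonoidHom) := by
    apply Units.map_injective
    exact Algebra.leftMulMatrix_injective b
  refine ⟨A, ?_, ?_⟩
  swap
  · rw [← hordu]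
    exact orderOf_injective _ hinj u
  -- the Frobenius
  let φ : K →+* K := iterateFrobenius K p (f * m)
  have hφ : ∀ z : K, φ z = z ^ q ^ m := by
    intro z
    rw [hq, ← pow_mul]
    rfl
  have hFpow : ∀ c : F, c ^ q ^ m = c ^ q := by
    intro c
    obtain ⟨r, rfl⟩ := hm
    have h1 : ∀ s : ℕ, c ^ (q ^ 2) ^ s = c := by
      intro s
      rw [← hF]
      exact FiniteField.pow_card_pow s c
    rw [pow_succ, pow_mul q 2 r, pow_mul, h1]
  have hφc : ∀ (c : F) (z : K), φ (c • z) = c ^ q • φ z := by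
    intro c z
    rw [Algebra.smul_def, map_mul, hφ, ← map_pow, hFpow, ← Algebra.smul_def]
  have hφsurj : Function.Surjective φ := by
    have : Finite K := inferInstance
    exact Finite.surjective_of_injective φ.injective
  let x : Matrix (Fin m) (Fin m) F := fun i j => Algebra.trace F K (φ (b i) * b j)
  have hcol : ∀ k, (u : K) * b k = ∑ i, (A : Matrix (Fin m) (Fin m) F) i k • b i := by
    intro k
    rw [hA]
    simp only [Algebra.leftMulMatrix_eq_repr_mul]
    exact (b.sum_repr ((u : K) * b k)).symm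
  refine ⟨x, ?_, ?_⟩
  · rw [← Matrix.mulVec_injective_iff_isUnit]
    have hinj2 : Function.Injective (Matrix.mulVecLin x) := by
      rw [injective_iff_map_eq_zero]
      intro v hv
      obtain ⟨w, hw⟩ : ∃ w : K, w = ∑ j, v j • b j := ⟨_, rfl⟩
      have h1 : ∀ i, Algebra.trace F K (φ (b i) * w) = 0 := by
        intro i
        have h2 : (x *ᵥ v) i = 0 := by
          have := congrFun hv i
          exact this
        rw [hw, Finset.mul_sum, map_sum, ← h2]
        refine Finset.sum_congr rfl fun j _ => ?_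
        rw [mul_smul_comm, map_smul, smul_eq_mul, mul_comm]
      have h3 : ∀ z : K, Algebra.trace F K (φ z * w) = 0 := by
        intro z
        rw [← b.sum_repr z, map_sum, Finset.sum_mul, map_sum]
        refine Finset.sum_eq_zero fun i _ => ?_
        rw [hφc, smul_mul_assoc, map_smul, h1, smul_zero]
      have h4 : w = 0 := by
        apply (traceForm_nondegenerate F K).1
        intro z
        obtain ⟨z, rfl⟩ := hφsurj z
        rw [Algebra.traceForm_apply, mul_comm]
        exact h3 z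
      rw [hw] at h4
      have h5 := Fintype.linearIndependent_iff.1 b.linearIndependent v h4
      exact funext h5
    exact hinj2
  · ext k l
    have h1 : ∀ k, φ ((u : K) * b k) = ∑ i, (A : Matrix (Fin m) (Fin m) F) i k ^ q • φ (b i) := by
      intro k
      rw [hcol, map_sum]
      exact Finset.sum_congr rfl fun i _ => hφc _ _
    have h2 : x k l = Algebra.trace F K (φ ((u : K) * b k) * ((u : K) * b l)) := by
      change Algebra.trace F K (φ (b k) * b l) = _
      congr 1
      rw [map_mul, hφ (u : K)]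
      calc φ (b k) * b l = ((u : K) ^ q ^ m * (u : K)) * (φ (b k) * b l) := by rw [hu1, one_mul]
        _ = _ := by ring
    rw [h2, h1, hcol, Finset.sum_mul_sum, map_sum, Matrix.mul_apply]
    simp only [Matrix.mul_apply, Finset.sum_mul]
    rw [Finset.sum_comm]
    refine Finset.sum_congr rfl fun i _ => ?_
    rw [map_sum]
    refine Finset.sum_congr rfl fun j _ => ?_
    rw [smul_mul_smul_comm, map_smul, smul_eq_mul, st_apply]
    ring

end singer

end Cfsg.Agent.H103.UniBlock
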