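import Mathlib
set_option linter.all false

/-!
An elementary bound for orders modulo scalars: if a unit `x` of a `K`-algebra (`K` a finite field with
`q` elements) is a root of a nonzero polynomial of degree `n` over `K`, then the order `k` of `x`
modulo `K` satisfies `(q - 1) * k ≤ q ^ n - 1`.
-/

set_option autoImplicit false

namespace Cfsg.Agent.H103.OrderBound

open Polynomial

/-- If `P(x) = 0`, `P ≠ 0`, and no power `x ^ j`, `0 < j < k`, is a scalar, then
`(|K| - 1) k ≤ |K| ^ deg P - 1`. -/
theorem order_bound {K R : Type*} [Field K] [Finite K] [Ring R] [Nontrivial R] [Algebra K R]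
    (x : Rˣ) (P : K[X]) (hP : P ≠ 0) (h : aeval (x : R) P = 0) (k : ℕ)
    (hk : ∀ j, 0 < j → j < k → ∀ c : K, (x : R) ^ j ≠ algebraMap K R c) :
    (Nat.card K - 1) * k ≤ Nat.card K ^ P.natDegree - 1 := by
  classical
  -- the finite set of values of polynomials of degree `< deg P`
  let φ : degreeLT K P.natDegree → R := fun Q => aeval (x : R) (Q : K[X])
  have hfin : Finite (degreeLT K P.natDegree) :=
    Finite.of_equiv _ (degreeLTEquiv K P.natDegree).symm.toEquiv
  have hcard : Nat.card (degreeLT K P.natDegree) = Nat.card K ^ P.natDegree := by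
    rw [Nat.card_congr (degreeLTEquiv K P.natDegree).toEquiv, Nat.card_fun, Nat.card_fin]
  have hpos : (P.natDegree : ℕ) ≠ 0 := by
    intro h0
    rw [natDegree_eq_zero] at h0
    obtain ⟨c, rfl⟩ := h0
    rw [aeval_C] at h
    apply hP
    have : c = 0 := by
      by_contra hc
      have h2 : (algebraMap K R c) * (algebraMap K R c⁻¹) = 1 := by
        rw [← map_mul, mul_inv_cancel₀ hc, map_one]
      rw [h, zero_mul] at h2
      exact zero_ne_one h2
    rw [this, C_0]
  -- every scalar multiple of a power is such a value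
  have hmem : ∀ (c : K) (i : ℕ), ∃ Q : degreeLT K P.natDegree,
      φ Q = algebraMap K R c * (x : R) ^ i := by
    intro c i
    refine ⟨⟨(C c * X ^ i) % P, ?_⟩, ?_⟩
    · rw [mem_degreeLT]
      have h1 : ((C c * X ^ i) % P).degree < P.degree := EuclideanDomain.mod_lt _ hP
      rwa [degree_eq_natDegree hP] at h1
    · change aeval (x : R) ((C c * X ^ i) % P) = _
      have h1 := EuclideanDomain.div_add_mod (C c * X ^ i) P
      have h2 := congrArg (aeval (x : R)) h1
      rw [map_add, map_mul, h, zero_mul, zero_add] at h2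
      rw [h2, map_mul, aeval_C, map_pow, aeval_X]
  choose Q hQ using hmem
  -- injection
  let f : Kˣ × Fin k → {S : degreeLT K P.natDegree // S ≠ 0} := fun ci =>
    ⟨Q (ci.1 : K) ci.2, by
      intro h0
      have h1 := hQ (ci.1 : K) ci.2
      rw [h0] at h1
      change aeval (x : R) (0 : K[X]) = _ at h1
      rw [map_zero] at h1
      have h2 : (algebraMap K R ((ci.1⁻¹ : Kˣ) : K)) *
          (algebraMap K R (ci.1 : K) * (x : R) ^ (ci.2 : ℕ)) = (x : R) ^ (ci.2 : ℕ) := by
        rw [← mul_assoc, ← map_mul, Units.inv_mul, map_one, one_mul]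
      rw [← h1, mul_zero, ← Units.val_pow_eq_pow_val] at h2
      exact (Units.ne_zero _ h2.symm)⟩
  have key : ∀ (c d : Kˣ) (i j : Fin k), i ≤ j →
      algebraMap K R (c : K) * (x : R) ^ (i : ℕ) = algebraMap K R (d : K) * (x : R) ^ (j : ℕ) →
      (c, i) = (d, j) := by
    intro c d i j hij heq
    have hij' : (i : ℕ) ≤ (j : ℕ) := hij
    have h1 : algebraMap K R (c : K) = algebraMap K R (d : K) * (x : R) ^ ((j : ℕ) - (i : ℕ)) := by
      have h2 : (x : R) ^ (j : ℕ) = (x : R) ^ ((j : ℕ) - (i : ℕ)) * (x : R) ^ (i : ℕ) := by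
        rw [← pow_add, Nat.sub_add_cancel hij']
      rw [h2, ← mul_assoc] at heq
      have h3 : IsUnit ((x : R) ^ (i : ℕ)) := (Units.isUnit x).pow _
      exact h3.mul_right_cancel heq
    have h4 : (x : R) ^ ((j : ℕ) - (i : ℕ)) = algebraMap K R ((d⁻¹ : Kˣ) * (c : K)) := by
      rw [map_mul, h1, ← mul_assoc, ← map_mul, Units.inv_mul, map_one, one_mul]
    rcases Nat.eq_zero_or_pos ((j : ℕ) - (i : ℕ)) with h0 | h0
    · have hij2 : i = j := by
        apply Fin.ext
        omega
      subst hij2
      rw [h0, pow_zero, mul_one] at h1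
      have h5 : c = d := Units.ext ((algebraMap K R).injective h1)
      rw [h5]
    · exact absurd h4 (hk _ h0 (by have := j.2; omega) _)
  have hf : Function.Injective f := by
    rintro ⟨c, i⟩ ⟨d, j⟩ hcd
    have h1 : Q (c : K) i = Q (d : K) j := congrArg Subtype.val hcd
    have h2 : algebraMap K R (c : K) * (x : R) ^ (i : ℕ)
        = algebraMap K R (d : K) * (x : R) ^ (j : ℕ) := by
      rw [← hQ, ← hQ, h1]
    rcases le_total i j with hij | hij
    · exact key c d i j hij h2
    · exact (key d c j i hij h2.symm).symm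
  have h1 := Nat.card_le_card_of_injective f hf
  rw [Nat.card_prod, Nat.card_fin] at h1
  have h2 : Nat.card Kˣ = Nat.card K - 1 := Nat.card_units K
  have h3 : Nat.card {S : degreeLT K P.natDegree // S ≠ 0} = Nat.card K ^ P.natDegree - 1 := by
    let _ : Fintype (degreeLT K P.natDegree) := Fintype.ofFinite _
    rw [← hcard, Nat.card_eq_fintype_card, Nat.card_eq_fintype_card,
      Fintype.card_subtype_compl, Fintype.card_subtype_eq]
  rw [h2, h3] at h1
  exact h1

end Cfsg.Agent.H103.OrderBound
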