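import Cfsg.Agent.H103.OrderBound
import Cfsg.Agent.StdL2.FGal
import Mathlib
set_option linter.all false

-- part: H103/Semi
section
/-!
Powers of semilinear maps: if `c A * t` is an element of a "semidirect product" and `t ^ E = 1` then
`(c A * t) ^ E = c B` with `A θ(B) = B A`; so the characteristic polynomial of `B` is fixed by the
field automorphism and the order of `B` modulo scalars is small.
-/

set_option autoImplicit false

namespace Cfsg.Agent.H103.Semi

open Polynomial Matrix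

section abstract

variable {G H : Type*} [Group G] [Group H]

/-- The twisted powers `A θ(A) θ²(A) ⋯`. -/
def tw (θ : G →* G) (A : G) : ℕ → G
  | 0 => 1
  | n + 1 => A * θ (tw θ A n)

theorem tw_zero (θ : G →* G) (A : G) : tw θ A 0 = 1 := rfl

theorem tw_succ (θ : G →* G) (A : G) (n : ℕ) : tw θ A (n + 1) = A * θ (tw θ A n) := rfl

theorem tw_succ' (θ : G →* G) (A : G) (n : ℕ) : tw θ A (n + 1) = tw θ A n * (θ^[n]) A := by
  induction n with
  | zero => rw [tw_succ, tw_zero, map_one, mul_one, one_mul]; rfl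
  | succ n ih =>
    calc tw θ A (n + 1 + 1) = A * θ (tw θ A n * (θ^[n]) A) := by rw [tw_succ, ih]
      _ = tw θ A (n + 1) * (θ^[n + 1]) A := by
        rw [map_mul, ← mul_assoc, ← tw_succ, Function.iterate_succ_apply']

theorem pow_eq (c : G →* H) (θ : G →* G) (t : H) (hc : ∀ X, t * c X = c (θ X) * t) (A : G)
    (n : ℕ) : (c A * t) ^ n = c (tw θ A n) * t ^ n := by
  induction n with
  | zero => rw [pow_zero, pow_zero, tw_zero, map_one, mul_one]
  | succ n ih =>
    rw [pow_succ', ih, tw_succ, map_mul, pow_succ', mul_assoc (c A) t, ← mul_assoc t, hc]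
    simp only [mul_assoc]

theorem exists_pow_eq (c : G →* H) (θ : G →* G) (t : H) (hc : ∀ X, t * c X = c (θ X) * t) (A : G)
    (E : ℕ) (hE : t ^ E = 1) (hθ : (θ^[E]) A = A) :
    ∃ B : G, (c A * t) ^ E = c B ∧ A * θ B = B * A := by
  refine ⟨tw θ A E, ?_, ?_⟩
  · rw [pow_eq c θ t hc, hE, mul_one]
  · rw [← tw_succ, tw_succ', hθ]

end abstract

section field

variable {F : Type*} [Field F]

/-- The fixed field of a ring automorphism. -/
def fixf (σ : F ≃+* F) : Subfield F where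
  carrier := {x | σ x = x}
  mul_mem' {a b} ha hb := by
    change σ a = a at ha
    change σ b = b at hb
    change σ (a * b) = a * b
    rw [map_mul, ha, hb]
  one_mem' := map_one σ
  add_mem' {a b} ha hb := by
    change σ a = a at ha
    change σ b = b at hb
    change σ (a + b) = a + b
    rw [map_add, ha, hb]
  zero_mem' := map_zero σ
  neg_mem' {a} ha := by
    change σ a = a at ha
    change σ (-a) = -a
    rw [map_neg, ha]
  inv_mem' a ha := by
    change σ a = a at ha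
    change σ a⁻¹ = a⁻¹
    rw [map_inv₀, ha]

theorem mem_fixf {σ : F ≃+* F} {x : F} : x ∈ fixf σ ↔ σ x = x := Iff.rfl

theorem card_eq [Finite F] (σ : F ≃+* F) : Nat.card F = Nat.card (fixf σ) ^ orderOf σ :=
  Cfsg.Agent.StdL2.FGal.card_fixed σ

theorem exists_lift (σ : F ≃+* F) {f : F[X]} (hf : f.map (σ : F →+* F) = f) :
    ∃ P : (fixf σ)[X], P.map (algebraMap (fixf σ) F) = f := by
  have h : f ∈ Polynomial.lifts (algebraMap (fixf σ) F) := by
    rw [Polynomial.lifts_iff_coeff_lifts]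
    intro n
    have h1 : σ (f.coeff n) = f.coeff n := by
      have h2 := congrArg (fun g => g.coeff n) hf
      rw [coeff_map] at h2
      exact h2
    exact ⟨⟨f.coeff n, h1⟩, rfl⟩
  rw [Polynomial.mem_lifts] at h
  exact h

/-- A unit of a finite `K`-algebra which is a root of `P ≠ 0` has order `k` modulo scalars with
`(|K| - 1) k ≤ |K| ^ deg P - 1`. -/
theorem exists_pow_scalar {K R : Type*} [Field K] [Finite K] [Ring R] [Nontrivial R] [Finite R]
    [Algebra K R] (x : Rˣ) (P : K[X]) (hP : P ≠ 0) (h : aeval (x : R) P = 0) :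
    ∃ k : ℕ, 0 < k ∧ (∃ c : K, (x : R) ^ k = algebraMap K R c) ∧
      (Nat.card K - 1) * k ≤ Nat.card K ^ P.natDegree - 1 := by
  classical
  have hex : ∃ k : ℕ, 0 < k ∧ ∃ c : K, (x : R) ^ k = algebraMap K R c := by
    have hfin : Finite Rˣ := inferInstance
    refine ⟨orderOf x, orderOf_pos x, 1, ?_⟩
    rw [map_one, ← Units.val_pow_eq_pow_val, pow_orderOf_eq_one, Units.val_one]
  refine ⟨Nat.find hex, (Nat.find_spec hex).1, (Nat.find_spec hex).2, ?_⟩
  apply Cfsg.Agent.H103.OrderBound.order_bound x P hP h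
  intro j hj0 hj c hc
  exact Nat.find_min hex hj ⟨hj0, c, hc⟩

/-- An invertible matrix whose characteristic polynomial is fixed by `σ` has small order modulo
scalars. -/
theorem exists_pow_of_charpoly {ι : Type*} [Fintype ι] [DecidableEq ι] [Nonempty ι] [Finite F]
    (σ : F ≃+* F) (B : GL ι F)
    (hB : (B : Matrix ι ι F).charpoly.map (σ : F →+* F) = (B : Matrix ι ι F).charpoly) :
    ∃ k : ℕ, 0 < k ∧ (∃ c : F, Matrix.scalar ι c = ((B ^ k : GL ι F) : Matrix ι ι F)) ∧
      (Nat.card (fixf σ) - 1) * k ≤ Nat.card (fixf σ) ^ Fintype.card ι - 1 := by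
  obtain ⟨P, hP⟩ := exists_lift σ hB
  have hinj : Function.Injective (algebraMap (fixf σ) F) := (algebraMap (fixf σ) F).injective
  have hdeg : P.natDegree = Fintype.card ι := by
    rw [← natDegree_map_eq_of_injective hinj P, hP, Matrix.charpoly_natDegree_eq_dim]
  have hP0 : P ≠ 0 := by
    rintro rfl
    rw [Polynomial.map_zero] at hP
    exact (Matrix.charpoly_monic (B : Matrix ι ι F)).ne_zero hP.symm
  have hroot : aeval (B : Matrix ι ι F) P = 0 := by
    have h1 := Matrix.aeval_self_charpoly (B : Matrix ι ι F)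
    rw [← hP, aeval_map_algebraMap] at h1
    exact h1
  obtain ⟨k, hk0, ⟨c, hc⟩, hk⟩ := exists_pow_scalar B P hP0 hroot
  rw [hdeg] at hk
  refine ⟨k, hk0, ⟨(c : F), ?_⟩, hk⟩
  rw [Units.val_pow_eq_pow_val, hc, IsScalarTower.algebraMap_apply (fixf σ) F (Matrix ι ι F)]
  rfl

end field

end Cfsg.Agent.H103.Semi
end

-- part: H103/Orbit
section
/-!
Finite sets stable under `x ↦ x ^ (-q)` in a commutative group: bounds for the exponent.
-/

set_option autoImplicit false

namespace Cfsg.Agent.H103.Orbit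

open Finset Function

variable {M : Type*} [CommGroup M]

/-- The map `x ↦ x ^ (-q)`. -/
def pi (q : ℕ) (x : M) : M := (x ^ q)⁻¹

theorem pi_eq_zpow (q : ℕ) (x : M) : pi q x = x ^ (-(q : ℤ)) := by
  rw [pi, zpow_neg, zpow_natCast]

theorem iterate_pi (q : ℕ) (x : M) (n : ℕ) : (pi q)^[n] x = x ^ ((-(q : ℤ)) ^ n) := by
  induction n with
  | zero => simp
  | succ n ih => rw [iterate_succ_apply', ih, pi_eq_zpow, ← zpow_mul, pow_succ]

theorem pi_pow (q : ℕ) (x : M) (n : ℕ) : pi q (x ^ n) = (pi q x) ^ n := by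
  rw [pi, pi, inv_pow, ← pow_mul, ← pow_mul, mul_comm]

theorem iterate_pi_pow (q : ℕ) (x : M) (i n : ℕ) : (pi q)^[i] (x ^ n) = ((pi q)^[i] x) ^ n := by
  induction i with
  | zero => rfl
  | succ i ih => rw [iterate_succ_apply', ih, pi_pow, ← iterate_succ_apply' (pi q)]

/-- The natural number `q ^ m - (-1) ^ m`. -/
def un (q m : ℕ) : ℕ := ((q : ℤ) ^ m - (-1) ^ m).toNat

theorem un_cast (q m : ℕ) (hq : 1 ≤ q) : (un q m : ℤ) = (q : ℤ) ^ m - (-1) ^ m := by
  rw [un, Int.toNat_of_nonneg]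
  have h1 : (1 : ℤ) ≤ (q : ℤ) ^ m := by
    have : (1 : ℤ) ≤ q := by exact_mod_cast hq
    exact one_le_pow₀ this
  have h2 : ((-1 : ℤ)) ^ m ≤ 1 := by
    rcases neg_one_pow_eq_or ℤ m with h | h <;> rw [h]; norm_num
  omega

theorem dvd_un (q m : ℕ) (hq : 1 ≤ q) : (q + 1) ∣ un q m := by
  have h1 : ((q + 1 : ℕ) : ℤ) ∣ (un q m : ℤ) := by
    rw [un_cast q m hq]
    have := sub_dvd_pow_sub_pow (q : ℤ) (-1) m
    have h2 : ((q + 1 : ℕ) : ℤ) = (q : ℤ) - (-1) := by push_cast; ring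
    rw [h2]
    exact this
  exact_mod_cast h1

theorem un_pos (q m : ℕ) (hq : 2 ≤ q) (hm : 1 ≤ m) : 0 < un q m := by
  have h1 := un_cast q m (by omega)
  have h2 : (2 : ℤ) ≤ (q : ℤ) ^ m := by
    have h3 : 2 ≤ q ^ m := hq.trans (Nat.le_self_pow (by omega) q)
    exact_mod_cast h3
  have h4 : ((-1 : ℤ)) ^ m ≤ 1 := by
    rcases neg_one_pow_eq_or ℤ m with h | h <;> rw [h]; norm_num
  omega

/-- `x ^ ((-q) ^ m) = x` gives `x ^ (q ^ m - (-1) ^ m) = 1`. -/
theorem pow_un_eq_one {q m : ℕ} (hq : 1 ≤ q) {x : M} (h : (pi q)^[m] x = x) : x ^ un q m = 1 := by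
  rw [iterate_pi] at h
  have h1 : x ^ ((-(q : ℤ)) ^ m - 1) = 1 := by
    rw [zpow_sub, h, zpow_one, mul_inv_cancel]
  rw [← zpow_natCast, un_cast q m hq]
  rcases Nat.even_or_odd m with hm | hm
  · rw [hm.neg_pow] at h1
    rw [hm.neg_one_pow]
    exact h1
  · rw [hm.neg_pow] at h1
    rw [hm.neg_one_pow]
    have h2 : ((q : ℤ) ^ m - -1) = -(-(q : ℤ) ^ m - 1) := by ring
    rw [h2, zpow_neg, h1, inv_one]

theorem mul_le_aux (q a b : ℕ) (hq : 2 ≤ q) (ha : 1 ≤ a) (hb : 1 ≤ b) :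
    ((q : ℤ) ^ a - (-1) ^ a) * ((q : ℤ) ^ b - (-1) ^ b)
      ≤ (q + 1) * ((q : ℤ) ^ (a + b - 1) + (-1) ^ (a + b)) := by
  obtain ⟨a, rfl⟩ := Nat.exists_eq_add_of_le' ha
  obtain ⟨b, rfl⟩ := Nat.exists_eq_add_of_le' hb
  have hq' : (2 : ℤ) ≤ q := by exact_mod_cast hq
  have h1 : a + 1 + (b + 1) - 1 = a + b + 1 := by omega
  rw [h1]
  obtain ⟨x, hx⟩ : ∃ x : ℤ, x = (q : ℤ) ^ a := ⟨_, rfl⟩
  obtain ⟨y, hy⟩ : ∃ y : ℤ, y = (q : ℤ) ^ b := ⟨_, rfl⟩
  have hx1 : 1 ≤ x := by rw [hx]; exact one_le_pow₀ (by omega)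
  have hy1 : 1 ≤ y := by rw [hy]; exact one_le_pow₀ (by omega)
  have e1 : (q : ℤ) ^ (a + 1) = x * q := by rw [pow_succ, hx]
  have e2 : (q : ℤ) ^ (b + 1) = y * q := by rw [pow_succ, hy]
  have e3 : (q : ℤ) ^ (a + b + 1) = x * y * q := by rw [pow_succ, pow_add, hx, hy]
  have e4 : ((-1 : ℤ)) ^ (a + 1 + (b + 1)) = (-1) ^ (a + 1) * (-1) ^ (b + 1) := pow_add _ _ _
  rw [e1, e2, e3, e4]
  rcases neg_one_pow_eq_or ℤ (a + 1) with h2 | h2 <;>
    rcases neg_one_pow_eq_or ℤ (b + 1) with h3 | h3 <;> rw [h2, h3]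
  · nlinarith [mul_nonneg (by omega : (0:ℤ) ≤ x) (by omega : (0:ℤ) ≤ y)]
  · nlinarith [mul_nonneg (by omega : (0:ℤ) ≤ x - 1) (by omega : (0:ℤ) ≤ y - 1),
      mul_nonneg (mul_nonneg (by omega : (0:ℤ) ≤ x) (by omega : (0:ℤ) ≤ y - 1)) (by omega : (0:ℤ) ≤ q)]
  · nlinarith [mul_nonneg (by omega : (0:ℤ) ≤ x - 1) (by omega : (0:ℤ) ≤ y - 1),
      mul_nonneg (mul_nonneg (by omega : (0:ℤ) ≤ y) (by omega : (0:ℤ) ≤ x - 1)) (by omega : (0:ℤ) ≤ q)]
  · nlinarith [mul_nonneg (mul_nonneg (by omega : (0:ℤ) ≤ x - 1) (by omega : (0:ℤ) ≤ y - 1)) (by omega : (0:ℤ) ≤ q)]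

/-- Weak form: an exponent divisible by `q + 1` and at most `q ^ m - (-1) ^ m`. -/
def Weak (q : ℕ) (S : Finset M) : Prop :=
  ∃ N : ℕ, 0 < N ∧ (q + 1) ∣ N ∧ (∀ x ∈ S, x ^ N = 1) ∧ (N : ℤ) ≤ (q : ℤ) ^ S.card - (-1) ^ S.card

/-- First alternative: several orbits. -/
def Multi (q : ℕ) (S : Finset M) : Prop :=
  ∃ N : ℕ, 0 < N ∧ (q + 1) ∣ N ∧ (∀ x ∈ S, x ^ N = 1) ∧ 2 ≤ S.card ∧
    (N : ℤ) ≤ (q : ℤ) ^ (S.card - 1) + (-1) ^ S.card

/-- Second alternative: one orbit. -/
def Single (q : ℕ) (S : Finset M) : Prop :=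
  ∃ N : ℕ, 0 < N ∧ (∃ b : M, b ^ (q + 1) = 1 ∧ ∀ x ∈ S, x ^ N = b) ∧
    ((q : ℤ) + 1) * N = (q : ℤ) ^ S.card - (-1) ^ S.card

theorem weak_of_multi {q : ℕ} (hq : 2 ≤ q) {S : Finset M} (h : Multi q S) : Weak q S := by
  obtain ⟨N, hN, hd, hx, h2, hle⟩ := h
  refine ⟨N, hN, hd, hx, hle.trans ?_⟩
  obtain ⟨m, hm⟩ := Nat.exists_eq_add_of_le' h2
  rw [hm]
  have h3 : m + 2 - 1 = m + 1 := by omega
  rw [h3, pow_succ (q : ℤ) (m + 1)]
  have hq' : (2 : ℤ) ≤ q := by exact_mod_cast hq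
  have h4 : (2 : ℤ) ≤ (q : ℤ) ^ (m + 1) := by
    have h3 : 2 ≤ q ^ (m + 1) := hq.trans (Nat.le_self_pow (by omega) q)
    exact_mod_cast h3
  have h5 : ((-1 : ℤ)) ^ (m + 2) ≤ 1 := by
    rcases neg_one_pow_eq_or ℤ (m + 2) with h | h <;> rw [h]; norm_num
  nlinarith

theorem weak_of_single {q : ℕ} {S : Finset M} (h : Single q S) : Weak q S := by
  obtain ⟨N, hN, ⟨b, hb, hx⟩, hle⟩ := h
  refine ⟨(q + 1) * N, Nat.mul_pos (by omega) hN, dvd_mul_right _ _, ?_, ?_⟩
  · intro x hxS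
    rw [mul_comm, pow_mul, hx x hxS, hb]
  · push_cast
    rw [hle]

theorem main (q : ℕ) (hq : 2 ≤ q) (hinj : Function.Injective (pi (M := M) q)) :
    ∀ (n : ℕ) (S : Finset M), S.card = n → S.Nonempty → (∀ x ∈ S, pi q x ∈ S) →
      Multi q S ∨ Single q S := by
  classical
  intro n
  induction n using Nat.strong_induction_on with
  | _ n ih =>
  intro S hcard hne hS
  obtain ⟨x, hx⟩ := hne
  -- `x` is periodic
  have hit : ∀ i, (pi q)^[i] x ∈ S := by
    intro i
    induction i with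
    | zero => exact hx
    | succ i hi => rw [iterate_succ_apply']; exact hS _ hi
  have hper : x ∈ Function.periodicPts (pi (M := M) q) := by
    have hfin : ¬ Function.Injective (fun i : ℕ => (⟨(pi q)^[i] x, hit i⟩ : {y // y ∈ S})) :=
      not_injective_infinite_finite _
    rw [Function.Injective] at hfin
    push Not at hfin
    obtain ⟨i, j, hij, hne⟩ := hfin
    have hij' : (pi q)^[i] x = (pi q)^[j] x := congrArg Subtype.val hij
    wlog hlt : i < j generalizing i j with H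
    · exact H j i hij.symm hne.symm hij'.symm (by omega)
    · refine ⟨j - i, by omega, ?_⟩
      have h1 : (pi q)^[i] ((pi q)^[j - i] x) = (pi q)^[i] x := by
        rw [← iterate_add_apply, Nat.add_sub_cancel' hlt.le, hij']
      exact (hinj.iterate i) h1
  obtain ⟨m, hm⟩ : ∃ m, m = Function.minimalPeriod (pi q) x := ⟨_, rfl⟩
  have hmpos : 0 < m := by rw [hm]; exact Function.minimalPeriod_pos_of_mem_periodicPts hper
  have hmx : (pi q)^[m] x = x := by rw [hm]; exact Function.iterate_minimalPeriod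
  let O : Finset M := (range m).image (fun i => (pi q)^[i] x)
  have hOcard : O.card = m := by
    rw [card_image_of_injOn, card_range]
    intro i hi j hj hij
    rw [coe_range, Set.mem_Iio] at hi hj
    rw [hm] at hi hj
    exact (Function.iterate_injOn_Iio_minimalPeriod) hi hj hij
  have hOsub : O ⊆ S := by
    intro y hy
    rw [mem_image] at hy
    obtain ⟨i, _, rfl⟩ := hy
    exact hit i
  have hxO : ∀ i, (pi q)^[i] x ∈ O := by
    intro i
    rw [mem_image]
    refine ⟨i % m, mem_range.2 (Nat.mod_lt _ hmpos), ?_⟩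
    rw [hm]
    exact Function.iterate_mod_minimalPeriod_eq
  have hOone : ∀ y ∈ O, y ^ un q m = 1 := by
    intro y hy
    rw [mem_image] at hy
    obtain ⟨i, _, rfl⟩ := hy
    rw [← iterate_pi_pow, pow_un_eq_one (by omega) hmx, iterate_pi, one_zpow]
  by_cases hOS : O = S
  · right
    obtain ⟨N, hN⟩ := dvd_un q m (by omega)
    refine ⟨N, ?_, ⟨x ^ N, ?_, ?_⟩, ?_⟩
    · have h1 := un_pos q m hq hmpos
      rw [hN] at h1
      exact Nat.pos_of_mul_pos_left h1
    · rw [← pow_mul, mul_comm, ← hN]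
      exact pow_un_eq_one (by omega) hmx
    · intro y hy
      rw [← hOS, mem_image] at hy
      obtain ⟨i, _, rfl⟩ := hy
      rw [← iterate_pi_pow]
      have h1 : pi q (x ^ N) = x ^ N := by
        have h2 : (x ^ N) ^ (q + 1) = 1 := by
          rw [← pow_mul, mul_comm, ← hN]
          exact pow_un_eq_one (by omega) hmx
        rw [pi, inv_eq_iff_mul_eq_one, ← pow_succ, h2]
      exact Function.iterate_fixed h1 i
    · rw [← hOS, hOcard, ← un_cast q m (by omega), hN]
      push_cast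
      ring
  · left
    have hss : (S \ O).card < n := by
      rw [← hcard]
      apply card_lt_card
      refine ⟨sdiff_subset, fun h => ?_⟩
      have := h hx
      rw [mem_sdiff] at this
      exact this.2 (hxO 0)
    have hne' : (S \ O).Nonempty := by
      rw [sdiff_nonempty]
      intro h
      exact hOS (Subset.antisymm hOsub h)
    have hcl : ∀ y ∈ S \ O, pi q y ∈ S \ O := by
      intro y hy
      rw [mem_sdiff] at hy ⊢
      refine ⟨hS y hy.1, fun h => hy.2 ?_⟩
      rw [mem_image] at h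
      obtain ⟨i, _, hi⟩ := h
      have h1 : pi q ((pi q)^[i + (m - 1)] x) = pi q y := by
        rw [← iterate_succ_apply' (pi q), ← hi]
        have h2 : (i + (m - 1)).succ = i + m := by omega
        rw [h2, iterate_add_apply, hmx]
      rw [← hinj h1]
      exact hxO _
    have hsum : S.card = m + (S \ O).card := by
      rw [← hOcard, add_comm, card_sdiff_add_card_eq_card hOsub]
    have hW : Weak q (S \ O) := by
      rcases ih _ hss (S \ O) rfl hne' hcl with h | h
      · exact weak_of_multi hq h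
      · exact weak_of_single h
    obtain ⟨N', hN', hd', hx', hle'⟩ := hW
    have hpos' : 1 ≤ (S \ O).card := card_pos.2 hne'
    refine ⟨Nat.lcm (un q m) N', Nat.lcm_pos (un_pos q m hq hmpos) hN',
      (dvd_un q m (by omega)).trans (Nat.dvd_lcm_left _ _), ?_, by omega, ?_⟩
    · intro y hy
      by_cases hyO : y ∈ O
      · obtain ⟨c, hc⟩ := Nat.dvd_lcm_left (un q m) N'
        rw [hc, pow_mul, hOone y hyO, one_pow]
      · obtain ⟨c, hc⟩ := Nat.dvd_lcm_right (un q m) N'
        rw [hc, pow_mul, hx' y (mem_sdiff.2 ⟨hy, hyO⟩), one_pow]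
    · have h1 : (q + 1) * Nat.lcm (un q m) N' ≤ un q m * N' := by
        rw [← Nat.gcd_mul_lcm (un q m) N']
        apply Nat.mul_le_mul_right
        exact Nat.le_of_dvd (Nat.gcd_pos_of_pos_right _ hN')
          (Nat.dvd_gcd (dvd_un q m (by omega)) hd')
      have h2 : ((q : ℤ) + 1) * (Nat.lcm (un q m) N' : ℤ)
          ≤ (q + 1) * ((q : ℤ) ^ (m + (S \ O).card - 1) + (-1) ^ (m + (S \ O).card)) := by
        calc ((q : ℤ) + 1) * (Nat.lcm (un q m) N' : ℤ) ≤ (un q m : ℤ) * N' := by exact_mod_cast h1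
          _ ≤ ((q : ℤ) ^ m - (-1) ^ m) * ((q : ℤ) ^ (S \ O).card - (-1) ^ (S \ O).card) := by
            rw [un_cast q m (by omega)]
            apply mul_le_mul_of_nonneg_left hle'
            rw [← un_cast q m (by omega)]
            exact Int.natCast_nonneg _
          _ ≤ _ := mul_le_aux q m _ hq hmpos hpos'
      rw [hsum]
      exact le_of_mul_le_mul_left h2 (by positivity)

end Cfsg.Agent.H103.Orbit
end

-- part: H103/Unitary
section
/-!
Orders modulo scalars of invertible matrices whose set of eigenvalues is stable under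
`a ↦ a ^ (-q)`.
-/

set_option autoImplicit false

namespace Cfsg.Agent.H103.Unitary

open Polynomial Matrix Finset
open Cfsg.Agent.H103.Orbit

section poly

variable {L : Type*} [Field L]

/-- A monic split polynomial divides `(X ^ N - b) ^ k` if its roots satisfy `a ^ N = b` and have
multiplicity at most `k`. -/
theorem dvd_of_roots [DecidableEq L] {f : L[X]} (hf : f.Monic) (hs : f.Splits) {N k : ℕ}
    (hN : 0 < N) {b : L} (hroot : ∀ a ∈ f.roots, a ^ N = b) (hk : ∀ a ∈ f.roots, f.roots.count a ≤ k) :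
    f ∣ (X ^ N - C b) ^ k := by
  have h1 : f = ∏ a ∈ f.roots.toFinset, (X - C a) ^ f.roots.count a := by
    conv_lhs => rw [hs.eq_prod_roots_of_monic hf]
    rw [Finset.prod_multiset_map_count]
  have h2 : ∏ a ∈ f.roots.toFinset, (X - C a) ^ f.roots.count a ∣
      ∏ a ∈ f.roots.toFinset, (X - C a) ^ k :=
    Finset.prod_dvd_prod_of_dvd _ _ fun a ha => pow_dvd_pow _ (hk a (Multiset.mem_toFinset.1 ha))
  have h3 : (X ^ N - C b : L[X]) ≠ 0 := (monic_X_pow_sub_C b hN.ne').ne_zero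
  have h4 : ∏ a ∈ f.roots.toFinset, (X - C a) ∣ (X ^ N - C b : L[X]) := by
    have h5 : f.roots.toFinset.val ≤ (X ^ N - C b : L[X]).roots := by
      rw [Multiset.le_iff_subset f.roots.toFinset.nodup]
      intro a ha
      rw [Finset.mem_val, Multiset.mem_toFinset] at ha
      rw [mem_roots h3, IsRoot.def, eval_sub, eval_pow, eval_X, eval_C, hroot a ha, sub_self]
    exact (Multiset.prod_X_sub_C_dvd_iff_le_roots h3 _).2 h5
  rw [h1]
  refine h2.trans ?_
  rw [Finset.prod_pow]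
  exact pow_dvd_pow_of_dvd h4 k

omit [Field L] in
/-- The degree is at least the number of distinct roots plus the multiplicity of a root minus one. -/
theorem card_add_count_le [DecidableEq L] (s : Multiset L) {a : L} (ha : a ∈ s) :
    s.toFinset.card + s.count a ≤ Multiset.card s + 1 := by
  have h1 : ∑ b ∈ s.toFinset, s.count b = Multiset.card s := Multiset.toFinset_sum_count_eq s
  have ha' : a ∈ s.toFinset := Multiset.mem_toFinset.2 ha
  rw [← Finset.add_sum_erase _ _ ha'] at h1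
  have h2 : (s.toFinset.erase a).card • 1 ≤ ∑ b ∈ s.toFinset.erase a, s.count b := by
    apply Finset.card_nsmul_le_sum
    intro b hb
    exact Multiset.count_pos.2 (Multiset.mem_toFinset.1 (Finset.mem_of_mem_erase hb))
  rw [Finset.card_erase_of_mem ha', smul_eq_mul, mul_one] at h2
  have h3 : 1 ≤ s.toFinset.card := Finset.card_pos.2 ⟨a, ha'⟩
  omega

end poly

variable {F L : Type*} [Field F] [Field L] [Algebra F L]

/-- If a power of a matrix is scalar over an extension it is scalar. -/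
theorem scalar_of_map {ι : Type*} [Fintype ι] [DecidableEq ι] [Nonempty ι] {A : Matrix ι ι F}
    {b : L} (h : A.map (algebraMap F L) = Matrix.scalar ι b) : ∃ c : F, Matrix.scalar ι c = A := by
  obtain ⟨i⟩ := ‹Nonempty ι›
  refine ⟨A i i, ?_⟩
  ext r s
  apply (algebraMap F L).injective
  have h1 := congrFun (congrFun h r) s
  have h2 := congrFun (congrFun h i) i
  rw [Matrix.map_apply, Matrix.scalar_apply, Matrix.diagonal_apply] at h1 h2
  rw [if_pos rfl] at h2
  rw [h1, Matrix.scalar_apply, Matrix.diagonal_apply]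
  split_ifs
  · exact h2
  · exact map_zero _

theorem unitary_bound {ι : Type*} [Fintype ι] [DecidableEq ι] [Nonempty ι] (p : ℕ) [Fact p.Prime]
    [CharP L p] (q f : ℕ) (hq : q = p ^ f) (hf : 1 ≤ f) (B : GL ι F)
    (hs : ((B : Matrix ι ι F).charpoly.map (algebraMap F L)).Splits)
    (hroot : ∀ a : L, ((B : Matrix ι ι F).charpoly.map (algebraMap F L)).IsRoot a →
      ((B : Matrix ι ι F).charpoly.map (algebraMap F L)).IsRoot (a ^ q)⁻¹) :
    ∃ k m c : ℕ, 0 < k ∧ (∃ r : F, Matrix.scalar ι r = ((B ^ k : GL ι F) : Matrix ι ι F)) ∧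
      1 ≤ m ∧ m ≤ Fintype.card ι ∧ (c = 0 ∨ m + p ^ (c - 1) ≤ Fintype.card ι) ∧
      ((2 ≤ m ∧ (k : ℤ) ≤ p ^ c * ((q : ℤ) ^ (m - 1) + (-1) ^ m)) ∨
        ((q : ℤ) + 1) * k = p ^ c * ((q : ℤ) ^ m - (-1) ^ m)) := by
  classical
  have hp : p.Prime := Fact.out
  have hq2 : 2 ≤ q := by
    rw [hq]
    calc 2 ≤ p := hp.two_le
      _ = p ^ 1 := (pow_one p).symm
      _ ≤ p ^ f := Nat.pow_le_pow_right hp.pos hf
  obtain ⟨g, hg⟩ : ∃ g, g = (B : Matrix ι ι F).charpoly.map (algebraMap F L) := ⟨_, rfl⟩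
  rw [← hg] at hs hroot
  have hgm : g.Monic := by rw [hg]; exact (Matrix.charpoly_monic _).map _
  have hgd : g.natDegree = Fintype.card ι := by
    rw [hg, natDegree_map, Matrix.charpoly_natDegree_eq_dim]
  have hg0 : g ≠ 0 := hgm.ne_zero
  have hgch : g = ((B : Matrix ι ι F).map (algebraMap F L)).charpoly := by
    rw [hg, Matrix.charpoly_map]
  have hne0 : ∀ a, g.IsRoot a → a ≠ 0 := by
    rintro a ha rfl
    rw [IsRoot.def, hgch, Matrix.eval_charpoly, map_zero, zero_sub, Matrix.det_neg] at ha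
    have h1 : ((B : Matrix ι ι F).map (algebraMap F L)).det ≠ 0 := by
      rw [← RingHom.mapMatrix_apply, ← RingHom.map_det]
      intro h
      have h2 : (B : Matrix ι ι F).det = 0 := (algebraMap F L).injective (by rw [h, map_zero])
      have h3 := (Matrix.isUnit_iff_isUnit_det _).1 B.isUnit
      rw [h2] at h3
      exact not_isUnit_zero h3
    rcases mul_eq_zero.1 ha with h2 | h2
    · exact (pow_ne_zero _ (neg_ne_zero.2 one_ne_zero)) h2
    · exact h1 h2
  have hcardroots : Multiset.card g.roots = Fintype.card ι := by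
    rw [← hgd]; exact hs.natDegree_eq_card_roots.symm
  -- the finite set of eigenvalues
  let R : Finset L := g.roots.toFinset
  have hmemR : ∀ a, a ∈ R ↔ g.IsRoot a := by
    intro a
    rw [Multiset.mem_toFinset, mem_roots hg0]
  let S : Finset Lˣ := R.preimage (fun a : Lˣ => (a : L)) (Units.val_injective.injOn)
  have hmemS : ∀ a : Lˣ, a ∈ S ↔ g.IsRoot (a : L) := by
    intro a
    rw [Finset.mem_preimage, hmemR]
  have hcardS : S.card = R.card := by
    apply Finset.card_bij (fun (a : Lˣ) _ => (a : L))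
    · intro a ha
      rw [hmemR]
      exact (hmemS a).1 ha
    · intro a _ b _ h
      exact Units.ext h
    · intro b hb
      rw [hmemR] at hb
      exact ⟨Units.mk0 b (hne0 b hb), (hmemS _).2 hb, rfl⟩
  have hRne : R.Nonempty := by
    have h1 : 0 < Multiset.card g.roots := by rw [hcardroots]; exact Fintype.card_pos
    obtain ⟨a, ha⟩ := Multiset.card_pos_iff_exists_mem.1 h1
    exact ⟨a, Multiset.mem_toFinset.2 ha⟩
  have hSne : S.Nonempty := by
    rw [← Finset.card_pos, hcardS]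
    exact Finset.card_pos.2 hRne
  -- the maximal multiplicity
  obtain ⟨a0, ha0, hmax⟩ := Finset.exists_max_image R (fun a => g.roots.count a) hRne
  obtain ⟨M, hM⟩ : ∃ M, M = g.roots.count a0 := ⟨_, rfl⟩
  have hRM : R.card + M ≤ Fintype.card ι + 1 := by
    rw [← hcardroots, hM]
    exact card_add_count_le _ (Multiset.mem_toFinset.1 ha0)
  have hM1 : 1 ≤ M := by rw [hM]; exact Multiset.count_pos.2 (Multiset.mem_toFinset.1 ha0)
  obtain ⟨c, hc⟩ : ∃ c, c = Nat.clog p M := ⟨_, rfl⟩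
  have hMc : M ≤ p ^ c := by rw [hc]; exact Nat.le_pow_clog hp.one_lt M
  have hcM : c = 0 ∨ p ^ (c - 1) < M := by
    rcases Nat.eq_zero_or_pos c with h | h
    · exact Or.inl h
    · right
      rw [← Nat.lt_clog_iff_pow_lt hp.one_lt, ← hc]
      omega
  have hpi : Function.Injective (Orbit.pi (M := Lˣ) q) := by
    intro a b hab
    rw [Orbit.pi, Orbit.pi, _root_.inv_inj] at hab
    apply Units.ext
    have h1 : ((a : L)) ^ p ^ f = (b : L) ^ p ^ f := by
      rw [← hq, ← Units.val_pow_eq_pow_val, ← Units.val_pow_eq_pow_val, hab]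
    exact (iterateFrobenius_inj L p f) h1
  have hcl : ∀ x ∈ S, Orbit.pi q x ∈ S := by
    intro x hx
    rw [hmemS] at hx ⊢
    have := hroot _ hx
    rw [Orbit.pi, Units.val_inv_eq_inv_val, Units.val_pow_eq_pow_val]
    exact this
  -- from an exponent to a scalar power
  have key : ∀ (N : ℕ) (b : Lˣ), 0 < N → (∀ x ∈ S, x ^ N = b) →
      ∃ r : F, Matrix.scalar ι r = ((B ^ (N * p ^ c) : GL ι F) : Matrix ι ι F) := by
    intro N b hN hb
    have h1 : g ∣ (X ^ N - C (b : L)) ^ p ^ c := by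
      apply dvd_of_roots hgm hs hN
      · intro a ha
        have ha' : g.IsRoot a := (mem_roots hg0).1 ha
        have h2 := hb (Units.mk0 a (hne0 a ha')) ((hmemS _).2 ha')
        rw [← h2, Units.val_pow_eq_pow_val, Units.val_mk0]
      · intro a ha
        have h2 := hmax a (Multiset.mem_toFinset.2 ha)
        rw [← hM] at h2
        exact h2.trans hMc
    have h3 : ((X : L[X]) ^ N - C (b : L)) ^ p ^ c = X ^ (N * p ^ c) - C ((b : L) ^ p ^ c) := by
      rw [sub_pow_char_pow, ← pow_mul, C_pow]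
    rw [h3] at h1
    obtain ⟨w, hw⟩ := h1
    have h4 := Matrix.aeval_self_charpoly ((B : Matrix ι ι F).map (algebraMap F L))
    rw [← hgch] at h4
    have h5 := congrArg (aeval ((B : Matrix ι ι F).map (algebraMap F L))) hw
    rw [map_mul, h4, zero_mul, map_sub, map_pow, aeval_X, aeval_C, sub_eq_zero] at h5
    have h6 : (((B ^ (N * p ^ c) : GL ι F) : Matrix ι ι F)).map (algebraMap F L)
        = Matrix.scalar ι ((b : L) ^ p ^ c) := by
      rw [Units.val_pow_eq_pow_val, ← RingHom.mapMatrix_apply, map_pow, RingHom.mapMatrix_apply, h5]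
      rfl
    exact scalar_of_map h6
  have hSc : 1 ≤ S.card := Finset.card_pos.2 hSne
  have hpc : 0 < p ^ c := pow_pos hp.pos c
  rcases Orbit.main q hq2 hpi S.card S rfl hSne hcl with h | h
  · obtain ⟨N, hN, -, hx, h2, hle⟩ := h
    refine ⟨N * p ^ c, S.card, c, Nat.mul_pos hN hpc, key N 1 hN hx, hSc, by omega, ?_,
      Or.inl ⟨h2, ?_⟩⟩
    · rcases hcM with h | h
      · exact Or.inl h
      · right; omega
    · push_cast
      rw [mul_comm]
      exact mul_le_mul_of_nonneg_left hle (by positivity)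
  · obtain ⟨N, hN, ⟨b, -, hx⟩, hle⟩ := h
    refine ⟨N * p ^ c, S.card, c, Nat.mul_pos hN hpc, key N b hN hx, hSc, by omega, ?_,
      Or.inr ?_⟩
    · rcases hcM with h | h
      · exact Or.inl h
      · right; omega
    · push_cast
      rw [← hle]
      ring

end Cfsg.Agent.H103.Unitary
end

-- part: H103/Geom
section
/-!
Inequalities between geometric sums, used to bound element orders.
-/

set_option autoImplicit false

namespace Cfsg.Agent.H103.Geom

open Finset

/-- `1 + q + ⋯ + q ^ (d - 1)`. -/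
def gs (q d : ℕ) : ℕ := ∑ i ∈ range d, q ^ i

theorem gs_succ (q d : ℕ) : gs q (d + 1) = gs q d + q ^ d := by
  rw [gs, sum_range_succ, ← gs]

theorem gs_zero (q : ℕ) : gs q 0 = 0 := rfl

theorem pred_mul_gs (q d : ℕ) (hq : 1 ≤ q) : (q - 1) * gs q d = q ^ d - 1 := by
  obtain ⟨r, rfl⟩ := Nat.exists_eq_add_of_le hq
  rw [Nat.add_sub_cancel_left]
  induction d with
  | zero => simp [gs_zero]
  | succ d ih =>
    have h1 : 1 ≤ (1 + r) ^ d := Nat.one_le_pow _ _ (by omega)
    rw [gs_succ, mul_add, ih, pow_succ]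
    zify [h1, Nat.one_le_iff_ne_zero.2 (Nat.mul_ne_zero (by omega : (1 + r) ^ d ≠ 0) (by omega : 1 + r ≠ 0))]
    ring

theorem le_gs_of_mul_le {q k d : ℕ} (hq : 2 ≤ q) (h : (q - 1) * k ≤ q ^ d - 1) : k ≤ gs q d := by
  rw [← pred_mul_gs q d (by omega)] at h
  exact Nat.le_of_mul_le_mul_left h (by omega)

/-- Comparison of geometric sums from comparison of an initial piece and of later terms. -/
theorem gs_le_of_base {c q Q m : ℕ} (hm : c * gs q m ≤ gs Q m)
    (hstep : ∀ i, m ≤ i → c * q ^ i ≤ Q ^ i) (d : ℕ) (hd : m ≤ d) : c * gs q d ≤ gs Q d := by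
  induction d, hd using Nat.le_induction with
  | base => exact hm
  | succ n hn ih =>
    rw [gs_succ, gs_succ, mul_add]
    exact Nat.add_le_add ih (hstep n hn)

theorem le_pow_pred (e q : ℕ) (hq : 2 ≤ q) (he : 1 ≤ e) : e ≤ q ^ (e - 1) := by
  obtain ⟨c, rfl⟩ := Nat.exists_eq_add_of_le he
  rw [Nat.add_sub_cancel_left]
  calc 1 + c ≤ 2 ^ c := by rw [add_comm]; exact Nat.lt_two_pow_self
    _ ≤ q ^ c := Nat.pow_le_pow_left hq c

theorem mul_pow_le (c q e i : ℕ) (hq : 1 ≤ q) (he : 1 ≤ e) (hi : 1 ≤ i) (hc : c ≤ q ^ (e - 1)) :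
    c * q ^ i ≤ (q ^ e) ^ i := by
  have h1 : (q ^ e) ^ i = (q ^ (e - 1)) ^ i * q ^ i := by
    rw [← mul_pow, ← pow_succ, Nat.sub_add_cancel he]
  rw [h1]
  apply Nat.mul_le_mul_right
  calc c ≤ q ^ (e - 1) := hc
    _ = (q ^ (e - 1)) ^ 1 := (pow_one _).symm
    _ ≤ (q ^ (e - 1)) ^ i := Nat.pow_le_pow_right (Nat.one_le_pow _ _ hq) hi

/-- `e (1 + q) ≤ 1 + q ^ e`. -/
theorem two_base (q e : ℕ) (hq : 2 ≤ q) (he : 1 ≤ e) (hne : ¬ (q = 2 ∧ e = 2)) :
    e * (1 + q) ≤ 1 + q ^ e := by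
  rcases Nat.lt_or_ge e 3 with h | h
  · interval_cases e
    · rw [pow_one]; omega
    · have : 3 ≤ q := by
        rcases Nat.lt_or_ge q 3 with h3 | h3
        · exfalso; exact hne ⟨by omega, rfl⟩
        · exact h3
      nlinarith
  · have h3 : ∀ e, 3 ≤ e → e * (1 + q) ≤ 1 + q ^ e := by
      intro e he
      induction e, he using Nat.le_induction with
      | base =>
        have : q ^ 3 = q * q * q := by ring
        rw [this]
        have h4 : 2 * 2 ≤ q * q := Nat.mul_le_mul hq hq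
        nlinarith
      | succ n hn ih =>
        rw [pow_succ]
        have h5 : q ^ 3 ≤ q ^ n := Nat.pow_le_pow_right (by omega) hn
        have h6 : q * 4 ≤ q ^ 3 := by
          have : q ^ 3 = q * (q * q) := by ring
          rw [this]
          exact Nat.mul_le_mul_left _ (Nat.mul_le_mul hq hq)
        nlinarith
    exact h3 e h

theorem N1 (q e d : ℕ) (hq : 2 ≤ q) (he : 1 ≤ e) (hd : 2 ≤ d) (hne : ¬ (q = 2 ∧ e = 2 ∧ d = 2)) :
    e * gs q d ≤ gs (q ^ e) d := by
  by_cases h22 : q = 2 ∧ e = 2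
  · obtain ⟨rfl, rfl⟩ := h22
    apply gs_le_of_base (m := 3) (by decide) _ d (by omega)
    intro i hi
    exact mul_pow_le 2 2 2 i (by norm_num) (by norm_num) (by omega) (by norm_num)
  · apply gs_le_of_base (m := 2) _ _ d hd
    · have h1 : gs q 2 = 1 + q := by simp [gs, sum_range_succ]
      have h2 : gs (q ^ e) 2 = 1 + q ^ e := by simp [gs, sum_range_succ]
      rw [h1, h2]
      exact two_base q e hq he h22
    · intro i hi
      exact mul_pow_le e q e i (by omega) he (by omega) (le_pow_pred e q hq he)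

theorem gs_three (q : ℕ) : gs q 3 = 1 + q + q ^ 2 := by simp [gs, sum_range_succ]

theorem two_mul_add_two_le (e : ℕ) (he : 3 ≤ e) : 2 * e + 2 ≤ 2 ^ e := by
  induction e, he using Nat.le_induction with
  | base => norm_num
  | succ n hn ih => rw [pow_succ]; omega

theorem N2 (q e d : ℕ) (hq : 2 ≤ q) (he : 3 ≤ e) (hd : 3 ≤ d) :
    (2 * e) * gs q d ≤ gs (q ^ e) d := by
  have h1 : 2 * e + 2 ≤ q ^ e :=
    (two_mul_add_two_le e he).trans (Nat.pow_le_pow_left hq e)
  apply gs_le_of_base (m := 3) _ _ d hd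
  · rw [gs_three, gs_three]
    have h2 : q ^ 3 ≤ q ^ e := Nat.pow_le_pow_right (by omega) he
    have h3 : 1 + q + q ^ 2 + 1 ≤ q ^ 3 := by
      have h4 : q ^ 3 = q ^ 2 * q := by ring
      rw [h4]
      nlinarith
    obtain ⟨y, hy⟩ : ∃ y, y = q ^ e := ⟨_, rfl⟩
    rw [← hy] at h1 h2 ⊢
    have h5 : (2 * e) * (1 + q + q ^ 2) ≤ y * y := Nat.mul_le_mul (by omega) (by omega)
    nlinarith
  · intro i hi
    have h2 : (q ^ e) ^ i = (q ^ (e - 1)) ^ i * q ^ i := by
      rw [← mul_pow, ← pow_succ, Nat.sub_add_cancel (by omega)]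
    rw [h2]
    apply Nat.mul_le_mul_right
    have h3 : 2 * e ≤ (q ^ (e - 1)) ^ 2 := by
      have h4 := le_pow_pred e q hq (by omega)
      have h5 : 2 ≤ q ^ (e - 1) := by omega
      nlinarith
    exact h3.trans (Nat.pow_le_pow_right (Nat.one_le_pow _ _ (by omega)) (by omega))

theorem two_mul_le_four_pow (e : ℕ) (he : 2 ≤ e) : 2 * e ≤ 4 ^ (e - 1) := by
  induction e, he using Nat.le_induction with
  | base => norm_num
  | succ n hn ih =>
    have : n + 1 - 1 = (n - 1) + 1 := by omega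
    rw [this, pow_succ]
    omega

theorem N3 (q e d : ℕ) (hq : 4 ≤ q) (he : 2 ≤ e) (hd : 3 ≤ d) :
    (2 * e) * gs q d ≤ gs (q ^ e) d := by
  have h1 : 2 * e ≤ q ^ (e - 1) :=
    (two_mul_le_four_pow e he).trans (Nat.pow_le_pow_left hq _)
  apply gs_le_of_base (m := 3) _ _ d hd
  · rw [gs_three, gs_three]
    obtain ⟨y, hy⟩ : ∃ y, y = q ^ (e - 1) := ⟨_, rfl⟩
    have h2 : q ^ e = y * q := by rw [hy, ← pow_succ, Nat.sub_add_cancel (by omega)]
    rw [h2]
    rw [← hy] at h1
    have h3 : q ≤ y := by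
      rw [hy]
      calc q = q ^ 1 := (pow_one q).symm
        _ ≤ q ^ (e - 1) := Nat.pow_le_pow_right (by omega) (by omega)
    have h4 : 1 + q + q ^ 2 ≤ 2 * q ^ 2 := by nlinarith
    calc 2 * e * (1 + q + q ^ 2) ≤ y * (2 * q ^ 2) := Nat.mul_le_mul h1 h4
      _ ≤ y * (y * q ^ 2) := by
        apply Nat.mul_le_mul_left
        apply Nat.mul_le_mul_right
        omega
      _ = (y * q) ^ 2 := by ring
      _ ≤ _ := by omega
  · intro i hi
    exact mul_pow_le (2 * e) q e i (by omega) (by omega) (by omega) h1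

end Cfsg.Agent.H103.Geom
end

-- part: H103/UnitaryField
section
/-!
An involutory field automorphism is `x ↦ x ^ q`; the eigenvalues of a matrix `B` with
`χ(B⁻¹)^σ = χ(B)` are stable under `a ↦ a ^ (-q)`; the crude bound `q ^ (d-1) + q ^ (d-2)` for the
order of `B` modulo scalars.
-/

set_option autoImplicit false

namespace Cfsg.Agent.H103.UnitaryField

open Polynomial Matrix
open Cfsg.Agent.H103.Semi Cfsg.Agent.H103.Unitary Cfsg.Agent.H103.Geom

section field

variable {F : Type*} [Field F] [Finite F]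

theorem sigma_eq_pow (σ : F ≃+* F) (hσ : orderOf σ = 2) (a : F) :
    σ a = a ^ Nat.card (fixf σ) := by
  classical
  have hc := card_eq σ
  rw [hσ] at hc
  have : Fintype (fixf σ) := Fintype.ofFinite _
  have : Algebra.IsAlgebraic (fixf σ) F := Algebra.IsAlgebraic.of_finite _ F
  let σ' : F ≃ₐ[fixf σ] F := AlgEquiv.ofRingEquiv (f := σ) (fun r => r.2)
  have hσ' : ∀ x, σ' x = σ x := fun x => rfl
  have hfin : Module.finrank (fixf σ) F = 2 := by
    have h1 : Nat.card F = Nat.card (fixf σ) ^ Module.finrank (fixf σ) F :=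
      Module.natCard_eq_pow_finrank
    rw [hc] at h1
    have h2 : 1 < Nat.card (fixf σ) := Finite.one_lt_card
    exact (Nat.pow_right_injective h2 h1).symm
  obtain ⟨j, hj⟩ := (FiniteField.bijective_frobeniusAlgEquivOfAlgebraic_pow (fixf σ) F).2 σ'
  have hj2 : (j : ℕ) < 2 := by have := j.2; omega
  change (FiniteField.frobeniusAlgEquivOfAlgebraic (fixf σ) F) ^ (j : ℕ) = σ' at hj
  have hpow : ∀ (i : ℕ) (x : F),
      ((FiniteField.frobeniusAlgEquivOfAlgebraic (fixf σ) F) ^ i) x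
        = x ^ (Fintype.card (fixf σ) ^ i) := by
    intro i x
    have h1 := congrFun (FiniteField.coe_frobeniusAlgEquivOfAlgebraic_iterate (fixf σ) F i) x
    rw [← h1, AlgEquiv.coe_pow]
  rcases Nat.lt_succ_iff_lt_or_eq.mp hj2 with h | h
  · exfalso
    have hj0 : (j : ℕ) = 0 := by omega
    have h1 : σ = 1 := by
      apply RingEquiv.ext
      intro b
      rw [← hσ', ← hj, hpow, hj0, pow_zero, pow_one]
      rfl
    rw [h1, orderOf_one] at hσ
    omega
  · rw [← hσ', ← hj, hpow, h, pow_one, Nat.card_eq_fintype_card]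

end field

section roots

variable {F L : Type*} [Field F] [Field L] [Algebra F L]

theorem isRoot_iff_det {ι : Type*} [Fintype ι] [DecidableEq ι] (B : Matrix ι ι F) (a : L) :
    (B.charpoly.map (algebraMap F L)).IsRoot a
      ↔ (Matrix.scalar ι a - B.map (algebraMap F L)).det = 0 := by
  rw [← Matrix.charpoly_map, IsRoot.def, Matrix.eval_charpoly]

theorem isRoot_inv {ι : Type*} [Fintype ι] [DecidableEq ι] (B : GL ι F) {a : L} (ha : a ≠ 0)
    (h : ((B : Matrix ι ι F).charpoly.map (algebraMap F L)).IsRoot a) :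
    (((B⁻¹ : GL ι F) : Matrix ι ι F).charpoly.map (algebraMap F L)).IsRoot a⁻¹ := by
  rw [isRoot_iff_det] at h ⊢
  have h1 : ((B⁻¹ : GL ι F) : Matrix ι ι F).map (algebraMap F L)
      * (B : Matrix ι ι F).map (algebraMap F L) = 1 := by
    rw [← Matrix.map_mul, Units.inv_mul, Matrix.map_one _ (map_zero _) (map_one _)]
  have h2 : Matrix.scalar ι a⁻¹ - ((B⁻¹ : GL ι F) : Matrix ι ι F).map (algebraMap F L)
      = Matrix.scalar ι (-a⁻¹) * (((B⁻¹ : GL ι F) : Matrix ι ι F).map (algebraMap F L)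
        * (Matrix.scalar ι a - (B : Matrix ι ι F).map (algebraMap F L))) := by
    have h3 : ((B⁻¹ : GL ι F) : Matrix ι ι F).map (algebraMap F L) * Matrix.scalar ι a
        = Matrix.scalar ι a * ((B⁻¹ : GL ι F) : Matrix ι ι F).map (algebraMap F L) :=
      (Matrix.scalar_commute a (Commute.all a) _).symm
    rw [mul_sub, h1, h3, mul_sub, ← mul_assoc, ← map_mul, neg_mul, inv_mul_cancel₀ ha, mul_one,
      map_neg, map_one, map_neg, neg_mul, one_mul]
    abel
  rw [h2, Matrix.det_mul, Matrix.det_mul, h, mul_zero, mul_zero]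

theorem hroot_of_charpoly {ι : Type*} [Fintype ι] [DecidableEq ι] (p : ℕ) [Fact p.Prime]
    [CharP L p] (q f : ℕ) (hq : q = p ^ f) (hf : 1 ≤ f) (σ : F →+* F) (hσ : ∀ x, σ x = x ^ q)
    (B : GL ι F)
    (h : ((B⁻¹ : GL ι F) : Matrix ι ι F).charpoly.map σ = (B : Matrix ι ι F).charpoly) (a : L)
    (ha : ((B : Matrix ι ι F).charpoly.map (algebraMap F L)).IsRoot a) :
    ((B : Matrix ι ι F).charpoly.map (algebraMap F L)).IsRoot (a ^ q)⁻¹ := by
  have hp : p.Prime := Fact.out
  by_cases ha0 : a = 0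
  · have hq0 : q ≠ 0 := by rw [hq]; exact pow_ne_zero _ hp.ne_zero
    rw [ha0, zero_pow hq0, _root_.inv_zero, ← ha0]
    exact ha
  · have h1 := isRoot_inv B ha0 ha
    let φ : L →+* L := iterateFrobenius L p f
    have hφ : ∀ x, φ x = x ^ q := by intro x; rw [hq]; rfl
    have h2 : φ.comp (algebraMap F L) = (algebraMap F L).comp σ := by
      ext x
      rw [RingHom.comp_apply, RingHom.comp_apply, hφ, hσ, map_pow]
    have h3 : (B : Matrix ι ι F).charpoly.map (algebraMap F L)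
        = ((((B⁻¹ : GL ι F) : Matrix ι ι F).charpoly.map (algebraMap F L))).map φ := by
      rw [Polynomial.map_map, h2, ← Polynomial.map_map, h]
    have h4 : (a ^ q)⁻¹ = φ a⁻¹ := by rw [hφ, inv_pow]
    rw [h3, h4]
    exact h1.map

end roots

section numbers

/-- `p ^ c ≤ q ^ (p ^ (c - 1))` for `c ≥ 1`. -/
theorem pow_le_aux (p q c : ℕ) (hp : 2 ≤ p) (hpq : p ≤ q) (hc : 1 ≤ c) :
    p ^ c ≤ q ^ (p ^ (c - 1)) :=
  (Nat.pow_le_pow_right (by omega) (Geom.le_pow_pred c p hp hc)).trans (Nat.pow_le_pow_left hpq _)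

theorem crude (p q d k m c : ℕ) (hp : 2 ≤ p) (hpq : p ≤ q) (hd : 2 ≤ d) (hm1 : 1 ≤ m)
    (hmd : m ≤ d) (hc : c = 0 ∨ m + p ^ (c - 1) ≤ d)
    (h : (2 ≤ m ∧ (k : ℤ) ≤ p ^ c * ((q : ℤ) ^ (m - 1) + (-1) ^ m)) ∨
        ((q : ℤ) + 1) * k = p ^ c * ((q : ℤ) ^ m - (-1) ^ m)) :
    k ≤ q ^ (d - 1) + q ^ (d - 2) := by
  have hone : ∀ n : ℕ, ((-1 : ℤ)) ^ n ≤ 1 ∧ -1 ≤ ((-1 : ℤ)) ^ n := by
    intro n
    rcases neg_one_pow_eq_or ℤ n with h | h <;> rw [h] <;> norm_num
  have hq1 : 1 ≤ q := by omega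
  rcases h with ⟨h2, h⟩ | h
  · -- several orbits
    have hk : k ≤ p ^ c * (q ^ (m - 1) + 1) := by
      have h3 : (k : ℤ) ≤ p ^ c * ((q : ℤ) ^ (m - 1) + 1) :=
        h.trans (mul_le_mul_of_nonneg_left (by linarith [(hone m).1]) (by positivity))
      exact_mod_cast h3
    refine hk.trans ?_
    rcases Nat.eq_zero_or_pos c with h0 | h0
    · rw [h0, pow_zero, one_mul]
      exact Nat.add_le_add (Nat.pow_le_pow_right hq1 (by omega)) (Nat.one_le_pow _ _ hq1)
    · have hc' : m + p ^ (c - 1) ≤ d := by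
        rcases hc with h | h
        · omega
        · exact h
      have h4 := pow_le_aux p q c hp hpq h0
      rw [mul_add, mul_one]
      apply Nat.add_le_add
      · calc p ^ c * q ^ (m - 1) ≤ q ^ (p ^ (c - 1)) * q ^ (m - 1) := Nat.mul_le_mul_right _ h4
          _ = q ^ (p ^ (c - 1) + (m - 1)) := by rw [pow_add]
          _ ≤ q ^ (d - 1) := Nat.pow_le_pow_right hq1 (by omega)
      · exact h4.trans (Nat.pow_le_pow_right hq1 (by omega))
  · -- one orbit
    have hk : (q + 1) * k ≤ p ^ c * (q ^ m + 1) := by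
      have h3 : ((q : ℤ) + 1) * k ≤ p ^ c * ((q : ℤ) ^ m + 1) := by
        rw [h]
        exact mul_le_mul_of_nonneg_left (by linarith [(hone m).2]) (by positivity)
      exact_mod_cast h3
    have h5 : (q + 1) * k ≤ (q + 1) * q ^ (d - 1) := by
      refine hk.trans ?_
      have h6 : (q + 1) * q ^ (d - 1) = q ^ d + q ^ (d - 1) := by
        have : q ^ d = q ^ (d - 1) * q := by rw [← pow_succ, Nat.sub_add_cancel (by omega)]
        rw [this]
        ring
      rw [h6]
      rcases Nat.eq_zero_or_pos c with h0 | h0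
      · rw [h0, pow_zero, one_mul]
        exact Nat.add_le_add (Nat.pow_le_pow_right hq1 (by omega)) (Nat.one_le_pow _ _ hq1)
      · have hc' : m + p ^ (c - 1) ≤ d := by
          rcases hc with h | h
          · omega
          · exact h
        have h4 := pow_le_aux p q c hp hpq h0
        rw [mul_add, mul_one]
        apply Nat.add_le_add
        · calc p ^ c * q ^ m ≤ q ^ (p ^ (c - 1)) * q ^ m := Nat.mul_le_mul_right _ h4
            _ = q ^ (p ^ (c - 1) + m) := by rw [pow_add]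
            _ ≤ q ^ d := Nat.pow_le_pow_right hq1 (by omega)
        · exact h4.trans (Nat.pow_le_pow_right hq1 (by omega))
    have h7 : k ≤ q ^ (d - 1) := Nat.le_of_mul_le_mul_left h5 (by omega)
    omega

/-- `2 (q ^ (d-1) + q ^ (d-2)) ≤ 1 + q² + ⋯ + q ^ (2 (d-1))` for `d ≥ 3`. -/
theorem two_mul_crude_le (q d : ℕ) (hq : 2 ≤ q) (hd : 3 ≤ d) :
    2 * (q ^ (d - 1) + q ^ (d - 2)) ≤ gs (q ^ 2) d := by
  obtain ⟨n, rfl⟩ := Nat.exists_eq_add_of_le' hd
  have h1 : n + 3 - 1 = n + 2 := by omega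
  have h2 : n + 3 - 2 = n + 1 := by omega
  rw [h1, h2, gs_succ]
  have h3 : q ^ (n + 1) ≤ q ^ (n + 2) := Nat.pow_le_pow_right (by omega) (by omega)
  have h4 : 4 ≤ q ^ (n + 2) := by
    calc 4 = 2 ^ 2 := by norm_num
      _ ≤ q ^ 2 := Nat.pow_le_pow_left hq 2
      _ ≤ q ^ (n + 2) := Nat.pow_le_pow_right (by omega) (by omega)
  have h5 : (q ^ 2) ^ (n + 2) = q ^ (n + 2) * q ^ (n + 2) := by
    rw [← pow_mul, ← pow_add]
    congr 1
    ring
  rw [h5]
  calc 2 * (q ^ (n + 2) + q ^ (n + 1)) ≤ 4 * q ^ (n + 2) := by omega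
    _ ≤ q ^ (n + 2) * q ^ (n + 2) := Nat.mul_le_mul_right _ h4
    _ ≤ _ := Nat.le_add_left _ _

end numbers

end Cfsg.Agent.H103.UnitaryField
end
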